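import Mathlib.FieldTheory.Finite.Basic
import Mathlib.GroupTheory.Index
import Mathlib.Tactic.FieldSimp
import Mathlib.Tactic.LinearCombination
import Mathlib.Tactic.Ring

/-!
An involution of the non-zero elements of a finite field inverted by the squares and satisfying the translation
equation is `x ↦ γ / x` with `-γ` a square.
-/

set_option autoImplicit false

namespace CfsgLib.ZassPSL

variable {F : Type*} [Field F] [Finite F]

theorem inversion_rigid (S : Subgroup Fˣ) (hS2 : S.index = 2) (φ : F → F)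
    (hφ0 : ∀ x, x ≠ 0 → φ x ≠ 0) (φφ : ∀ x, x ≠ 0 → φ (φ x) = x)
    (φS : ∀ (l : Fˣ) (x : F), l ∈ S → x ≠ 0 → (l : F) * φ (l * x) = φ x)
    (key : ∀ u, u ≠ 0 → ∃ l : Fˣ, l ∈ S ∧ φ (l * -φ (-u)) = -φ u ∧
      ∀ x, x ≠ 0 → φ x + u ≠ 0 → x - φ (-u) ≠ 0 → φ (φ x + u) = φ (l * (x - φ (-u))) + φ u) :
    ∃ γ : F, γ ≠ 0 ∧ (∀ x, x ≠ 0 → x * φ x = γ) ∧ ∀ h : -γ ≠ 0, Units.mk0 (-γ) h ∈ S := by
  classical
  -- the class of an element
  let q : F → Bool := fun x => decide (∃ h : x ≠ 0, Units.mk0 x h ∈ S)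
  have qdef : ∀ (x : F) (hx : x ≠ 0), (q x = true ↔ Units.mk0 x hx ∈ S) := fun x hx =>
    ⟨fun h => (of_decide_eq_true h).2, fun h => decide_eq_true ⟨hx, h⟩⟩
  have qmul : ∀ x y, x ≠ 0 → y ≠ 0 → q (x * y) = (q x == q y) := by
    intro x y hx hy
    rw [Bool.eq_iff_iff, beq_iff_eq, Bool.eq_iff_iff (a := q x), qdef _ (mul_ne_zero hx hy), qdef x hx, qdef y hy,
      show Units.mk0 (x * y) (mul_ne_zero hx hy) = Units.mk0 x hx * Units.mk0 y hy from Units.ext rfl,
      Subgroup.mul_mem_iff_of_index_two hS2]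
  have qone : q 1 = true := (qdef 1 one_ne_zero).2 (by
    rw [show Units.mk0 (1 : F) one_ne_zero = 1 from Units.ext rfl]; exact S.one_mem)
  have qsq : ∀ z, z ≠ 0 → q (z * z) = true := fun z hz => by rw [qmul z z hz hz]; simp
  have qinv : ∀ z, z ≠ 0 → q z⁻¹ = q z := fun z hz => by
    have h := qmul z z⁻¹ hz (inv_ne_zero hz)
    rw [mul_inv_cancel₀ hz, qone] at h
    revert h
    cases q z <;> cases q z⁻¹ <;> simp
  let c : F → F := fun x => x * φ x
  have hc0 : ∀ x, x ≠ 0 → c x ≠ 0 := fun x hx => mul_ne_zero hx (hφ0 x hx)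
  have hcinv : ∀ l x, l ≠ 0 → q l = true → x ≠ 0 → c (l * x) = c x := by
    intro l x hl hq hx
    have h := φS (Units.mk0 l hl) x ((qdef l hl).1 hq) hx
    rw [Units.val_mk0] at h
    show l * x * φ (l * x) = x * φ x
    rw [mul_comm l x, mul_assoc, ← h, mul_comm l x]
  have hcc : ∀ x, x ≠ 0 → c (φ x) = c x := fun x hx => by
    show φ x * φ (φ x) = x * φ x
    rw [φφ x hx, mul_comm]
  have hsame : ∀ x y, x ≠ 0 → y ≠ 0 → q x = q y → c x = c y := by
    intro x y hx hy hxy
    have hl : y * x⁻¹ ≠ 0 := mul_ne_zero hy (inv_ne_zero hx)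
    have e : y * x⁻¹ * x = y := inv_mul_cancel_right₀ hx y
    rw [← e, hcinv _ x hl (by rw [qmul y _ hy (inv_ne_zero hx), qinv x hx, hxy]; simp) hx]
  have hqφ : ∀ x, x ≠ 0 → q (φ x) = (q (c x) == q x) := fun x hx => by
    have h := qmul x (φ x) hx (hφ0 x hx)
    show q (φ x) = (q (x * φ x) == q x)
    rw [h]
    cases q x <;> cases q (φ x) <;> simp
  -- all values of `c` lie in one class
  have hcclass : ∀ x y, x ≠ 0 → y ≠ 0 → q (c x) = q (c y) := by
    intro x y hx hy
    by_cases hxy : q x = q y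
    · rw [hsame x y hx hy hxy]
    by_contra hne
    have h1 : q (φ x) = q (φ y) := by
      rw [hqφ x hx, hqφ y hy]
      revert hxy hne
      cases q x <;> cases q y <;> cases q (c x) <;> cases q (c y) <;> simp
    exact hne (by rw [← hcc x hx, ← hcc y hy, hsame _ _ (hφ0 x hx) (hφ0 y hy) h1])
  have hm1 : (-1 : F) ≠ 0 := neg_ne_zero.2 one_ne_zero
  -- minus the values of `c` are squares
  have hnegc : ∀ u, u ≠ 0 → q (-c u) = true := by
    intro u hu
    obtain ⟨l, hl, hl0, -⟩ := key u hu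
    have hu' : -u ≠ 0 := neg_ne_zero.2 hu
    have hy : (l : F) * -φ (-u) ≠ 0 := mul_ne_zero l.ne_zero (neg_ne_zero.2 (hφ0 _ hu'))
    have e4 : c (l * -φ (-u)) * (-1 * (u * u)) = (l : F) * c (-u) * c u := by
      show (l : F) * -φ (-u) * φ (l * -φ (-u)) * (-1 * (u * u)) = (l : F) * (-u * φ (-u)) * (u * φ u)
      rw [hl0]; ring
    have h5 := congrArg q e4
    rw [qmul _ _ (hc0 _ hy) (mul_ne_zero hm1 (mul_ne_zero hu hu)), qmul _ _ hm1 (mul_ne_zero hu hu), qsq u hu,
      qmul _ _ (mul_ne_zero l.ne_zero (hc0 _ hu')) (hc0 _ hu), qmul _ _ l.ne_zero (hc0 _ hu'),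
      hcclass _ u hy hu, hcclass _ u hu' hu,
      show q (l : F) = true from (qdef _ l.ne_zero).2 (by rw [Units.mk0_val]; exact hl)] at h5
    rw [show -c u = -1 * c u by ring, qmul _ _ hm1 (hc0 u hu)]
    revert h5
    cases q (c u) <;> cases q (-1 : F) <;> simp
  -- `c` is constant
  refine ⟨c 1, hc0 1 one_ne_zero, ?_, fun h => (qdef _ h).1 (hnegc 1 one_ne_zero)⟩
  by_contra hcon
  push Not at hcon
  obtain ⟨w, hw0, hwc⟩ := hcon
  change c w ≠ c 1 at hwc
  have hwS : q w = false := by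
    cases hqw : q w
    · rfl
    · exact absurd (hsame w 1 hw0 one_ne_zero (hqw.trans qone.symm)) hwc
  have hqc : q (c 1) = true := by
    cases hq : q (c 1)
    · refine absurd ?_ hwc
      rw [← hcc 1 one_ne_zero]
      refine hsame w _ hw0 (hφ0 1 one_ne_zero) ?_
      rw [hqφ 1 one_ne_zero, hq, qone, hwS]; rfl
    · rfl
  have hqm1 : q (-1 : F) = true := by
    have h := hnegc 1 one_ne_zero
    rw [show -c 1 = -1 * c 1 by ring, qmul _ _ hm1 (hc0 1 one_ne_zero), hqc] at h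
    revert h
    cases q (-1 : F) <;> simp
  -- a square followed by a non-square
  obtain ⟨x, hx0, hxS, hx1, hx1S⟩ : ∃ x, x ≠ 0 ∧ q x = true ∧ x + 1 ≠ 0 ∧ q (x + 1) = false := by
    by_contra hc
    push Not at hc
    have hc' : ∀ x, x ≠ 0 → q x = true → x + 1 ≠ 0 → q (x + 1) = true := fun x h1 h2 h3 => by
      cases hq : q (x + 1)
      · exact absurd hq (hc x h1 h2 h3)
      · rfl
    let B : AddSubgroup F :=
      { carrier := {z | z = 0 ∨ q z = true}
        zero_mem' := Or.inl rfl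
        add_mem' := by
          rintro z z' (rfl | hz) hz'
          · rw [zero_add]; exact hz'
          rcases hz' with rfl | hz'
          · rw [add_zero]; exact Or.inr hz
          by_cases h0 : z + z' = 0
          · exact Or.inl h0
          by_cases hz0 : z' = 0
          · rw [hz0, add_zero]; exact Or.inr hz
          by_cases hz00 : z = 0
          · rw [hz00, zero_add]; exact Or.inr hz'
          have e : z + z' = z' * (z * z'⁻¹ + 1) := by
            rw [mul_add, mul_one, mul_left_comm, mul_inv_cancel₀ hz0, mul_one]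
          have h1 : z * z'⁻¹ + 1 ≠ 0 := fun h1 => h0 (by rw [e, h1, mul_zero])
          refine Or.inr ?_
          rw [e, qmul _ _ hz0 h1, hz', hc' _ (mul_ne_zero hz00 (inv_ne_zero hz0))
            (by rw [qmul _ _ hz00 (inv_ne_zero hz0), qinv _ hz0, hz, hz']; rfl) h1]
          rfl
        neg_mem' := by
          rintro z (rfl | hz)
          · exact Or.inl neg_zero
          · by_cases hz0 : z = 0
            · exact Or.inl (by rw [hz0, neg_zero])
            · refine Or.inr ?_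
              rw [← neg_one_mul, qmul _ _ hm1 hz0, hz, hqm1]; rfl }
    haveI := Fintype.ofFinite F
    have hB : Nat.card B = Nat.card S + 1 := by
      rw [← Finite.card_option]
      refine (Nat.card_congr (Equiv.ofBijective (fun o : Option S => o.elim (⟨0, Or.inl rfl⟩ : B)
        (fun x => ⟨((x : Fˣ) : F), Or.inr ((qdef _ (x : Fˣ).ne_zero).2 (by rw [Units.mk0_val]; exact x.2))⟩))
        ⟨?_, ?_⟩)).symm
      · rintro (_ | x) (_ | y) h
        · rfl
        · exact absurd (congrArg Subtype.val h).symm (y : Fˣ).ne_zero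
        · exact absurd (congrArg Subtype.val h) (x : Fˣ).ne_zero
        · exact congrArg some (Subtype.ext (Units.ext (congrArg Subtype.val h)))
      · rintro ⟨z, hz⟩
        by_cases hz0 : z = 0
        · exact ⟨none, Subtype.ext hz0.symm⟩
        · exact ⟨some ⟨Units.mk0 z hz0, (qdef z hz0).1 (hz.resolve_left hz0)⟩, rfl⟩
    have h1 := S.index_mul_card
    rw [hS2, Nat.card_units] at h1
    obtain ⟨d, hd⟩ := AddSubgroup.card_addSubgroup_dvd_card B
    rw [hB] at hd
    have hpos : 0 < Nat.card S := Nat.card_pos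
    rcases d with _ | _ | d
    · omega
    · omega
    · have := Nat.mul_le_mul_left (Nat.card S + 1) (show 2 ≤ d + 1 + 1 by omega)
      omega
  obtain ⟨u, hu⟩ : ∃ u, u = c 1 := ⟨_, rfl⟩
  rw [← hu] at hwc hqc
  have hu0 : u ≠ 0 := hu ▸ hc0 1 one_ne_zero
  obtain ⟨l, hl, hl0, hkey⟩ := key u hu0
  have hcu : c u = u := (hsame u 1 hu0 one_ne_zero (hqc.trans qone.symm)).trans hu.symm
  have hφu : φ u = 1 := mul_left_cancel₀ hu0 (by rw [mul_one]; exact hcu)
  have hqnu : q (-u) = true := by rw [← neg_one_mul, qmul _ _ hm1 hu0, hqc, hqm1]; rfl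
  have hcnu : c (-u) = u := (hsame _ 1 (neg_ne_zero.2 hu0) one_ne_zero (hqnu.trans qone.symm)).trans hu.symm
  have hφnu : φ (-u) = -1 := mul_left_cancel₀ (neg_ne_zero.2 hu0) (by
    show c (-u) = _
    rw [hcnu, mul_neg, mul_one, neg_neg])
  rw [hφnu, hφu, neg_neg, mul_one] at hl0
  have hlv : (l : F) = -u := by rw [← φφ _ l.ne_zero, hl0, ← hφnu, φφ _ (neg_ne_zero.2 hu0)]
  have hcx : c x = u := (hsame x 1 hx0 one_ne_zero (hxS.trans qone.symm)).trans hu.symm
  have hφx : φ x = u / x := by rw [eq_div_iff hx0, mul_comm]; exact hcx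
  have hsum : φ x + u = u * x⁻¹ * (x + 1) := by rw [hφx, mul_add, mul_assoc, inv_mul_cancel₀ hx0]; ring
  have hux : u * x⁻¹ ≠ 0 := mul_ne_zero hu0 (inv_ne_zero hx0)
  have hsum0 : φ x + u ≠ 0 := by rw [hsum]; exact mul_ne_zero hux hx1
  have hkx := hkey x hx0 hsum0 (by rw [hφnu, sub_neg_eq_add]; exact hx1)
  rw [hφnu, sub_neg_eq_add, hφu, hlv] at hkx
  have hq1 : q (u * x⁻¹) = true := by rw [qmul _ _ hu0 (inv_ne_zero hx0), qinv x hx0, hqc, hxS]; rfl
  have hn : -u * (x + 1) ≠ 0 := mul_ne_zero (neg_ne_zero.2 hu0) hx1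
  have e1 : φ (φ x + u) = c (x + 1) / (u * x⁻¹ * (x + 1)) := by
    rw [eq_div_iff (mul_ne_zero hux hx1), ← hcinv _ _ hux hq1 hx1, ← hsum]
    exact mul_comm _ _
  have e2 : φ (-u * (x + 1)) = c (x + 1) / (-u * (x + 1)) := by
    rw [eq_div_iff hn, ← hcinv _ _ (neg_ne_zero.2 hu0) hqnu hx1]
    exact mul_comm _ _
  rw [e1, e2] at hkx
  apply hwc
  rw [hsame w (x + 1) hw0 hx1 (hwS.trans hx1S.symm)]
  apply mul_right_cancel₀ hx1
  field_simp at hkx
  linear_combination hkx

end CfsgLib.ZassPSL
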