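import Cfsg.Agent.Lib.SharpThree.PGL
import Mathlib.LinearAlgebra.Matrix.SpecialLinearGroup
import Mathlib.LinearAlgebra.Matrix.ProjectiveSpecialLinearGroup

/-!
A group on a projective line containing the translations, the square scalings and `x ↦ -1/x`, with the right
point stabiliser, is `PSL₂`.
-/

set_option autoImplicit false

namespace CfsgLib.ZassPSL

open MulAction OnePoint Matrix CfsgLib.SharpThree
open scoped MatrixGroups

variable {G α : Type*} [Group G] [MulAction G α] {F : Type*} [Field F]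

/-- A translation in `SL₂`. -/
def transSL (v : F) : SL(2, F) := ⟨!![1, v; 0, 1], by simp [det_fin_two]⟩

/-- A diagonal element of `SL₂`. -/
def diagSL (t : F) (ht : t ≠ 0) : SL(2, F) := ⟨!![t, 0; 0, t⁻¹], by simp [det_fin_two, ht]⟩

/-- The element `x ↦ -1/x` of `SL₂`. -/
def invSL : SL(2, F) := ⟨!![0, 1; -1, 0], by simp [det_fin_two]⟩

theorem transSL_val (v : F) : (transSL v : Matrix (Fin 2) (Fin 2) F) = !![1, v; 0, 1] := rfl
theorem diagSL_val (t : F) (ht : t ≠ 0) : (diagSL t ht : Matrix (Fin 2) (Fin 2) F) = !![t, 0; 0, t⁻¹] := rfl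
theorem invSL_val : ((invSL : SL(2, F)) : Matrix (Fin 2) (Fin 2) F) = !![0, 1; -1, 0] := rfl

variable [DecidableEq F]

theorem toGL_val (A : SL(2, F)) : ((A.toGL : GL (Fin 2) F) : Matrix (Fin 2) (Fin 2) F) = (A : Matrix (Fin 2) (Fin 2) F) := rfl

theorem transSL_smul (v x : F) : (transSL v).toGL • (x : OnePoint F) = ((x + v : F) : OnePoint F) := by
  simp [smul_some_eq_ite, toGL_val, transSL_val]

theorem transSL_smul_infty (v : F) : (transSL v).toGL • (∞ : OnePoint F) = ∞ := by
  simp [smul_infty_eq_self_iff, toGL_val, transSL_val]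

theorem diagSL_smul (t x : F) (ht : t ≠ 0) :
    (diagSL t ht).toGL • (x : OnePoint F) = ((t * t * x : F) : OnePoint F) := by
  simp [smul_some_eq_ite, toGL_val, diagSL_val, ht, mul_comm, mul_left_comm]

theorem diagSL_smul_infty (t : F) (ht : t ≠ 0) : (diagSL t ht).toGL • (∞ : OnePoint F) = ∞ := by
  simp [smul_infty_eq_self_iff, toGL_val, diagSL_val]

theorem invSL_smul (x : F) (hx : x ≠ 0) :
    (invSL : SL(2, F)).toGL • (x : OnePoint F) = ((-x⁻¹ : F) : OnePoint F) := by
  simp [smul_some_eq_ite, toGL_val, invSL_val, hx, neg_div, div_neg]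

theorem invSL_smul_zero : (invSL : SL(2, F)).toGL • ((0 : F) : OnePoint F) = ∞ := by
  simp [smul_some_eq_ite, toGL_val, invSL_val]

theorem invSL_smul_infty : (invSL : SL(2, F)).toGL • (∞ : OnePoint F) = ((0 : F) : OnePoint F) := by
  simp [smul_infty_eq_ite, toGL_val, invSL_val]

/-- Recognition of `PSL₂(F)`. -/
theorem mulEquiv_psl (e : OnePoint F ≃ α)
    (huniq : ∀ {g g' : G}, (∀ x : OnePoint F, g • e x = g' • e x) → g = g')
    (htr : ∀ v : F, ∃ g : G, ∀ x, g • e x = e ((transSL v).toGL • x))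
    (hsc : ∀ (t : F) (ht : t ≠ 0), ∃ g : G, ∀ x, g • e x = e ((diagSL t ht).toGL • x))
    (hinv : ∃ g : G, ∀ x, g • e x = e ((invSL : SL(2, F)).toGL • x))
    (hstab : ∀ g : G, g • e ∞ = e ∞ → g • e ((0 : F) : OnePoint F) = e ((0 : F) : OnePoint F) →
      ∃ (t : F) (ht : t ≠ 0), ∀ x, g • e x = e ((diagSL t ht).toGL • x)) :
    Nonempty (G ≃* Matrix.ProjectiveSpecialLinearGroup (Fin 2) F) := by
  let L : Subgroup SL(2, F) :=
    { carrier := {A | ∃ g : G, ∀ x, g • e x = e (A.toGL • x)}
      one_mem' := ⟨1, fun x => by simp⟩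
      mul_mem' := by
        rintro A B ⟨g, hg⟩ ⟨k, hk⟩
        exact ⟨g * k, fun x => by rw [mul_smul, hk, hg, map_mul, mul_smul]⟩
      inv_mem' := by
        rintro A ⟨g, hg⟩
        exact ⟨g⁻¹, fun x => by rw [inv_smul_eq_iff, hg, map_inv, smul_inv_smul]⟩ }
  have hT : ∀ v, transSL v ∈ L := htr
  have hS : ∀ (t : F) (ht : t ≠ 0), diagSL t ht ∈ L := hsc
  have hI : (invSL : SL(2, F)) ∈ L := hinv
  have htri : ∀ A : SL(2, F), A.toGL • (∞ : OnePoint F) = ∞ → A ∈ L := by
    intro A hA
    rw [smul_infty_eq_self_iff, toGL_val] at hA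
    have hdet : A 0 0 * A 1 1 = 1 := by
      have := A.det_coe
      rwa [det_fin_two, hA, mul_zero, sub_zero] at this
    have ha : A 0 0 ≠ 0 := left_ne_zero_of_mul_eq_one hdet
    have hd : A 1 1 = (A 0 0)⁻¹ := eq_inv_of_mul_eq_one_right hdet
    have hA' : A = transSL (A 0 0 * A 0 1) * diagSL (A 0 0) ha := by
      apply Matrix.SpecialLinearGroup.ext
      intro i j
      show A.1 i j = (!![1, A.1 0 0 * A.1 0 1; 0, 1] * !![A.1 0 0, 0; 0, (A.1 0 0)⁻¹] : Matrix (Fin 2) (Fin 2) F) i j
      fin_cases i <;> fin_cases j <;> simp [Matrix.mul_apply, Fin.sum_univ_two, hA, hd] <;> field_simp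
    rw [hA']
    exact L.mul_mem (hT _) (hS _ _)
  have hall : ∀ A : SL(2, F), A ∈ L := by
    intro A
    cases hA : A.toGL • (∞ : OnePoint F) with
    | infty => exact htri A hA
    | coe v =>
      have hm : invSL * transSL (-v) * A ∈ L := htri _ (by
        rw [map_mul, map_mul, mul_smul, mul_smul, hA, transSL_smul, add_neg_cancel, invSL_smul_zero])
      have := L.mul_mem (L.inv_mem (L.mul_mem hI (hT (-v)))) hm
      rwa [inv_mul_cancel_left] at this
  choose Φ hΦ using hall
  let φ : SL(2, F) →* G :=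
    { toFun := Φ
      map_one' := huniq fun x => by rw [hΦ, map_one, one_smul, one_smul]
      map_mul' := fun A B => huniq fun x => by rw [hΦ, mul_smul (Φ A), hΦ, hΦ, map_mul, mul_smul] }
  have hφ : ∀ A x, φ A • e x = e (A.toGL • x) := hΦ
  have hpick : ∀ y : α, ∃ A : SL(2, F), φ A • e ∞ = y := by
    intro y
    obtain ⟨x, rfl⟩ := e.surjective y
    cases x with
    | infty => exact ⟨1, by rw [hφ, map_one, one_smul]⟩
    | coe x => exact ⟨transSL x * invSL, by rw [hφ, map_mul, mul_smul, invSL_smul_infty, transSL_smul, zero_add]⟩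
  have hsurj : Function.Surjective φ := by
    suffices hst : ∀ g : G, g • e ∞ = e ∞ → g ∈ φ.range by
      intro g
      obtain ⟨A, hA⟩ := hpick (g • e ∞)
      obtain ⟨B, hB⟩ := hst ((φ A)⁻¹ * g) (by rw [mul_smul, inv_smul_eq_iff, hA])
      exact ⟨A * B, by rw [map_mul, hB, mul_inv_cancel_left]⟩
    intro g hg
    obtain ⟨y, hy⟩ := e.surjective (g • e ((0 : F) : OnePoint F))
    cases y with
    | infty => exact absurd (MulAction.injective g (hy.symm.trans hg.symm)) (e.injective.ne (coe_ne_infty _))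
    | coe v =>
      obtain ⟨t, ht, hx⟩ := hstab ((φ (transSL v))⁻¹ * g)
        (by rw [mul_smul, inv_smul_eq_iff, hφ, transSL_smul_infty, hg])
        (by rw [mul_smul, inv_smul_eq_iff, hφ, transSL_smul, zero_add, hy])
      refine ⟨transSL v * diagSL t ht, huniq fun x => ?_⟩
      rw [hφ, map_mul, mul_smul, ← hφ, ← hx, mul_smul, smul_inv_smul]
  have hker : φ.ker = Subgroup.center SL(2, F) := by
    ext A
    rw [MonoidHom.mem_ker, Matrix.SpecialLinearGroup.mem_center_iff]
    constructor
    · intro hA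
      have hfix : ∀ x : OnePoint F, A.toGL • x = x := fun x => e.injective (by rw [← hφ, hA, one_smul])
      have h10 : A 1 0 = 0 := smul_infty_eq_self_iff.1 (hfix ∞)
      have h0 := hfix ((0 : F) : OnePoint F)
      have h1 := hfix ((1 : F) : OnePoint F)
      have hdet := A.det_coe
      rw [det_fin_two, h10, mul_zero, sub_zero] at hdet
      have hd : A 1 1 ≠ 0 := right_ne_zero_of_mul_eq_one hdet
      simp only [smul_some_eq_ite, toGL_val, h10, zero_mul, zero_add, if_neg hd, mul_zero, mul_one, coe_eq_coe,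
        div_eq_iff hd, one_mul] at h0 h1
      rw [h0, add_zero] at h1
      refine ⟨A 0 0, ?_, ?_⟩
      · rw [← h1] at hdet
        rw [Fintype.card_fin, pow_two]
        exact hdet
      · ext i j
        fin_cases i <;> fin_cases j <;> simp [h0, h10, h1]
    · rintro ⟨r, -, hA⟩
      refine huniq fun x => ?_
      rw [hφ, one_smul]
      congr 1
      have hd : A 1 1 ≠ 0 := by
        intro h
        have hdet := A.det_coe
        rw [← hA] at hdet h
        simp [det_fin_two] at hdet h
        simp [h] at hdet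
      cases x with
      | infty => simp [smul_infty_eq_self_iff, toGL_val, ← hA]
      | coe x =>
        rw [← hA] at hd
        simp [smul_some_eq_ite, toGL_val, ← hA] at hd ⊢
        first | (rw [if_neg hd]; field_simp) | field_simp | simp [hd]
  let iso : Matrix.ProjectiveSpecialLinearGroup (Fin 2) F ≃* G :=
    (QuotientGroup.quotientMulEquivOfEq hker.symm).trans (QuotientGroup.quotientKerEquivOfSurjective φ hsurj)
  exact ⟨iso.symm⟩

end CfsgLib.ZassPSL
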