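import Cfsg.Agent.Lib.ZassPSL.Field
import Cfsg.Agent.Lib.ZassPSL.Recognition
import Cfsg.Agent.Lib.ZassPSL.Functional
import Cfsg.Agent.Lib.Zass.Basic
import Mathlib.Algebra.Field.Shrink
import Mathlib.Algebra.Ring.Shrink

/-!
Zassenhaus groups with `2d = n - 1` and inverted two-point stabiliser: `PSL₂`.
-/

set_option autoImplicit false

namespace CfsgLib.ZassPSL

open MulAction CfsgLib.SharpThree

theorem not_dvd_of_lt {p f g k : ℕ} (hp : 2 ≤ p) (hk : 2 * k + 1 = p ^ f) (hk1 : 1 ≤ k) (hg : g < f) (hg1 : 1 ≤ g) :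
    ¬ k ∣ p ^ g - 1 := by
  intro hd
  have hd1 : k ∣ p ^ Nat.gcd f g - 1 := by
    rw [← Nat.pow_sub_one_gcd_pow_sub_one]
    exact Nat.dvd_gcd (Dvd.intro_left 2 (by omega)) hd
  obtain ⟨e, he⟩ := Nat.gcd_dvd_left f g
  have hd0 : 1 ≤ Nat.gcd f g := Nat.gcd_pos_of_pos_right f hg1
  have hdg : Nat.gcd f g ≤ g := Nat.le_of_dvd hg1 (Nat.gcd_dvd_right f g)
  generalize Nat.gcd f g = d at *
  subst he
  have he2 : 2 ≤ e := by
    rcases e with _ | _ | e
    · rw [mul_zero] at hg; omega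
    · rw [zero_add, mul_one] at hg; omega
    · omega
  rw [pow_mul] at hk
  have hr2 : 2 ≤ p ^ d := le_trans hp (Nat.le_self_pow (by omega) p)
  have h1 := Nat.le_of_dvd (by omega) hd1
  have h2 : (p ^ d) ^ 2 ≤ (p ^ d) ^ e := Nat.pow_le_pow_right (by omega) he2
  have h3 : 2 * p ^ d ≤ (p ^ d) ^ 2 := by rw [pow_two]; exact Nat.mul_le_mul_right _ hr2
  omega

variable {G α : Type*} [Group G] [Finite G] [MulAction G α] [Fintype α]

set_option maxHeartbeats 800000 in
open Classical in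
/-- Zassenhaus groups with `2d = n - 1`: `PSL₂` over a field with `n` elements. -/
theorem exists_mulEquiv_psl (hP : CfsgLib.Zass.Pre G α) {a b : α} (hab : a ≠ b)
    (K : Subgroup G) (hK : CfsgLib.Zass.Pre.IsKernel a K) (hKc : ∀ x ∈ K, ∀ y ∈ K, x * y = y * x)
    {p f : ℕ} (hp : p.Prime) (hKcard : Nat.card K = p ^ f)
    (hd : 2 * Nat.card ↥(stabilizer G a ⊓ stabilizer G b) + 2 = Fintype.card α)
    {s : G} (hsa : s • a = b) (hsb : s • b = a) (hss : s * s = 1)
    (hinv : ∀ h ∈ stabilizer G a ⊓ stabilizer G b, s * h * s⁻¹ = h⁻¹) :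
    ∃ (F : Type) (_ : Field F) (_ : Fintype F), Fintype.card F = p ^ f ∧ p ≠ 2 ∧ Fintype.card α = p ^ f + 1 ∧
      Nonempty (G ≃* Matrix.ProjectiveSpecialLinearGroup (Fin 2) F) := by
  haveI := hP.faithful
  set M := stabilizer G a ⊓ stabilizer G b with hMdef
  have hα : Fintype.card α = p ^ f + 1 := by
    have e1 : Nat.card K = Nat.card {y : α // y ≠ a} := by
      refine Nat.card_congr (Equiv.ofBijective (fun k : K => (⟨(k : G) • b, fun e => hab
        (MulAction.injective (k : G) (e.trans (hK.le k k.2).symm)).symm⟩ : {y : α // y ≠ a})) ⟨?_, ?_⟩)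
      · intro k k' e
        have h1 : ((k' : G)⁻¹ * k) • b = b := by
          rw [mul_smul, inv_smul_eq_iff]
          exact congrArg Subtype.val e
        by_contra hne
        exact hab.symm (hK.fix _ (K.mul_mem (K.inv_mem k'.2) k.2) (fun e' => hne (Subtype.ext (inv_mul_eq_one.1 e').symm)) b h1)
      · intro y
        obtain ⟨k, hk, hky⟩ := hK.regular b y hab.symm y.2
        exact ⟨⟨k, hk⟩, Subtype.ext hky⟩
    rw [hKcard, Nat.card_eq_fintype_card, Fintype.card_subtype_compl, Fintype.card_subtype_eq] at e1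
    have := Fintype.card_pos_iff.2 ⟨a⟩
    omega
  have hMc : 2 * Nat.card M + 1 = p ^ f := by omega
  have hM1 : 1 ≤ Nat.card M := Nat.card_pos
  have hp2 : p ≠ 2 := by
    rintro rfl
    rcases Nat.eq_zero_or_pos f with rfl | hf
    · simp at hMc; omega
    · have : 2 ∣ 2 ^ f := dvd_pow_self 2 hf.ne'
      omega
  have hsinv : s⁻¹ = s := inv_eq_of_mul_eq_one_left hss
  have ss : ∀ x : α, s • s • x = x := fun x => by rw [← mul_smul, hss, one_smul]
  have hMcomm : ∀ x y : M, x * y = y * x := fun x y => by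
    have h1 := hinv _ (M.mul_mem x.2 y.2)
    have h2 : s * ((x : G) * y) * s⁻¹ = (s * x * s⁻¹) * (s * y * s⁻¹) := by group
    rw [h2, hinv _ x.2, hinv _ y.2] at h1
    apply Subtype.ext
    simpa using (congrArg (fun t : G => t⁻¹) h1).symm
  -- the representation on the kernel
  letI : CommGroup K := { (inferInstance : Group K) with mul_comm := fun x y => Subtype.ext (hKc x x.2 y y.2) }
  have hconj : ∀ m ∈ M, ∀ k ∈ K, m * k * m⁻¹ ∈ K := fun m hm k hk => hK.conj_mem m hm.1 k hk
  let ρ : M →* AddMonoid.End (Additive K) :=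
    { toFun := fun m => MonoidHom.toAdditive
        ({ toFun := fun k => ⟨(m : G) * k * (m : G)⁻¹, hconj m m.2 k k.2⟩
           map_one' := Subtype.ext (by simp)
           map_mul' := fun k k' => Subtype.ext (by simp [mul_assoc]) } : K →* K)
      map_one' := AddMonoidHom.ext fun k => Subtype.ext (by
        show ((1 : M) : G) * (Additive.toMul k : K) * ((1 : M) : G)⁻¹ = ((Additive.toMul k : K) : G)
        simp)
      map_mul' := fun m m' => AddMonoidHom.ext fun k => Subtype.ext (by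
        show ((m : G) * m') * (Additive.toMul k : K) * ((m : G) * m')⁻¹ =
          (m : G) * ((m' : G) * (Additive.toMul k : K) * (m' : G)⁻¹) * (m : G)⁻¹
        group) }
  have hρapp : ∀ (m : M) (v : Additive K),
      ((Additive.toMul (ρ m v) : K) : G) = (m : G) * (Additive.toMul v : K) * (m : G)⁻¹ := fun m v => rfl
  have hρ : Fpf ρ := by
    intro m v hv
    by_contra hc
    push Not at hc
    obtain ⟨k, rfl⟩ := Additive.ofMul.surjective v
    have e : (m : G) * k * (m : G)⁻¹ = k := congrArg (fun t : Additive K => ((Additive.toMul t : K) : G)) hv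
    have e' : (m : G) * k = k * m := mul_inv_eq_iff_eq_mul.1 e
    have hk1 : (k : G) ≠ 1 := fun e1 => hc.2 (by rw [show k = 1 from Subtype.ext e1]; rfl)
    have hkb : (k : G) • b ≠ b := fun e1 => hab.symm (hK.fix _ k.2 hk1 b e1)
    have hka : (k : G) • b ≠ a := fun e1 =>
      hab.symm (MulAction.injective (k : G) (e1.trans (hK.le k k.2).symm))
    refine hc.1 (Subtype.ext (hP.three _ a b ((k : G) • b) hab hkb.symm hka.symm m.2.1 m.2.2 ?_))
    rw [← mul_smul, e', mul_smul, m.2.2]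
  have hV : Nat.card (Additive K) = p ^ f := hKcard
  have hspan : ∀ u : Additive K, u ≠ 0 →
      AddSubgroup.closure (Set.range fun m : (⊤ : Subgroup M) => ρ m u) = ⊤ := fun u hu =>
    hρ.span_eq_top ⊤ hp hV (fun g hg hg1 => by
      rw [Subgroup.card_top]
      exact not_dvd_of_lt hp.two_le hMc hM1 hg hg1) hu
  obtain ⟨k1, hk1, hk1b⟩ : ∃ k ∈ K, k ≠ 1 := by
    by_contra hc
    push Not at hc
    have : K = ⊥ := (Subgroup.eq_bot_iff_forall _).2 hc
    rw [this, Subgroup.card_bot] at hKcard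
    omega
  have hw : Additive.ofMul (⟨k1, hk1⟩ : K) ≠ 0 := fun h => hk1b (congrArg (fun t : Additive K => ((Additive.toMul t : K) : G)) h)
  obtain ⟨R, hR, ψ0, hψ1', hψa'⟩ := exists_field ⊤ (fun x _ y _ => hMcomm x y) hw hspan
  haveI hfinR : Finite R := Finite.of_injective _ ψ0.injective
  letI := hR.toField
  haveI : Small.{0} R := Countable.toSmall R
  let r : Shrink.{0} R ≃+* R := Shrink.ringEquiv.{0} R
  let F := Shrink.{0} R
  haveI : Fintype R := Fintype.ofFinite R
  haveI : Fintype F := Fintype.ofEquiv R (equivShrink.{0} R)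
  let ψ : F → G := fun x => ((Additive.toMul (ψ0 (r x)) : K) : G)
  have hψmem : ∀ x, ψ x ∈ K := fun x => (Additive.toMul (ψ0 (r x)) : K).2
  have hψadd : ∀ x y, ψ (x + y) = ψ x * ψ y := fun x y => by
    show ((Additive.toMul (ψ0 (r (x + y))) : K) : G) = _
    rw [map_add, map_add]; rfl
  have hψ0 : ψ 0 = 1 := by
    show ((Additive.toMul (ψ0 (r 0)) : K) : G) = 1
    rw [map_zero, map_zero]; rfl
  have hψinj : Function.Injective ψ := fun x y h =>
    r.injective (ψ0.injective (congrArg Additive.ofMul (Subtype.ext h : (Additive.toMul (ψ0 (r x)) : K) = Additive.toMul (ψ0 (r y)))))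
  have hψsurj : ∀ k ∈ K, ∃ x, ψ x = k := fun k hk => ⟨r.symm (ψ0.symm (Additive.ofMul (⟨k, hk⟩ : K))), by
    show ((Additive.toMul (ψ0 (r (r.symm _))) : K) : G) = k
    rw [r.apply_symm_apply, ψ0.apply_symm_apply]; rfl⟩
  have hψa : ∀ m : M, ∃ u : F, ∀ x, (m : G) * ψ x * (m : G)⁻¹ = ψ (u * x) := fun m => by
    obtain ⟨u, hu⟩ := hψa' ⟨m, Subgroup.mem_top m⟩
    refine ⟨r.symm u, fun x => ?_⟩
    show _ = ((Additive.toMul (ψ0 (r (r.symm u * x))) : K) : G)
    rw [map_mul, r.apply_symm_apply, ← hu, hρapp]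
  choose μ hμ using hψa
  have hcardF : Fintype.card F = p ^ f := by
    rw [← hV, ← Nat.card_eq_fintype_card, Nat.card_congr (equivShrink.{0} R).symm]
    exact Nat.card_congr ψ0.toEquiv
  -- the coordinates
  let pt : F → α := fun x => ψ x • b
  have pt0 : pt 0 = b := by simp [pt, hψ0]
  have ptne : ∀ x, pt x ≠ a := fun x e =>
    hab.symm (MulAction.injective (ψ x) (e.trans (hK.le _ (hψmem x)).symm))
  have ptinj : Function.Injective pt := fun x y hxy => hψinj (by
    by_contra hne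
    refine hab.symm (hK.fix _ (K.mul_mem (K.inv_mem (hψmem y)) (hψmem x))
      (fun e => hne (inv_mul_eq_one.1 e).symm) b ?_)
    rw [mul_smul, inv_smul_eq_iff]
    exact hxy)
  have ptsurj : ∀ y : α, y ≠ a → ∃ x, pt x = y := fun y hy => by
    obtain ⟨k, hk, hky⟩ := hK.regular b y hab.symm hy
    obtain ⟨x, rfl⟩ := hψsurj k hk
    exact ⟨x, hky⟩
  have hμpt : ∀ (m : M) (x : F), (m : G) • pt x = pt (μ m * x) := fun m x => by
    show (m : G) • ψ x • b = ψ (μ m * x) • b
    rw [← hμ, mul_smul, mul_smul, show (m : G)⁻¹ • b = b from inv_smul_eq_iff.2 m.2.2.symm]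
  let e : OnePoint F ≃ α := Equiv.ofBijective (fun x => x.elim a pt) ⟨by
    rintro (_ | x) (_ | y) hxy
    · rfl
    · exact absurd hxy.symm (ptne y)
    · exact absurd hxy (ptne x)
    · exact congrArg some (ptinj hxy), fun y => by
    by_cases hy : y = a
    · exact ⟨none, hy.symm⟩
    · obtain ⟨x, hx⟩ := ptsurj y hy
      exact ⟨some x, hx⟩⟩
  have e_inf : e OnePoint.infty = a := rfl
  have e_coe : ∀ x : F, e (x : OnePoint F) = pt x := fun _ => rfl
  have huniq : ∀ {g g' : G}, (∀ x : OnePoint F, g • e x = g' • e x) → g = g' := fun {g g'} hx =>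
    eq_of_smul_eq_smul (α := α) fun y => by
      obtain ⟨x, rfl⟩ := e.surjective y
      exact hx x
  have hμone : μ 1 = 1 := by
    have h := hμ 1 1
    rw [mul_one, Subgroup.coe_one, one_mul, inv_one, mul_one] at h
    exact (hψinj h).symm
  have hμmul : ∀ m m' : M, μ (m * m') = μ m * μ m' := fun m m' => by
    have h := hμ (m * m') 1
    rw [mul_one, Subgroup.coe_mul] at h
    refine hψinj (h.symm.trans ?_)
    rw [← hμ m (μ m')]
    have h' := hμ m' 1
    rw [mul_one] at h'
    rw [← h']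
    group
  have hμ0 : ∀ m : M, μ m ≠ 0 := fun m h => by
    have := hμmul m m⁻¹
    rw [mul_inv_cancel, hμone, h, zero_mul] at this
    exact one_ne_zero this
  have hμinj : Function.Injective μ := fun m m' h => by
    have h1 : μ (m'⁻¹ * m) = 1 := by rw [hμmul, h, ← hμmul, inv_mul_cancel, hμone]
    have h2 : ((m'⁻¹ * m : M) : G) = 1 := huniq fun x => by
      rw [one_smul]
      cases x with
      | infty => rw [e_inf]; exact (m'⁻¹ * m).2.1
      | coe x => rw [e_coe, hμpt, h1, one_mul]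
    exact (inv_mul_eq_one.1 (Subtype.ext h2)).symm
  let μu : M →* Fˣ := MonoidHom.mk' (fun m => Units.mk0 (μ m) (hμ0 m)) fun m m' => Units.ext (hμmul m m')
  set S := μu.range with hS
  have hScard : Nat.card S = Nat.card M := by
    refine (Nat.card_congr (Equiv.ofBijective (fun m : M => (⟨μu m, m, rfl⟩ : S)) ⟨fun m m' h => ?_, ?_⟩)).symm
    · exact hμinj (congrArg Units.val (congrArg Subtype.val h))
    · rintro ⟨-, m, rfl⟩; exact ⟨m, rfl⟩
  have hS2 : S.index = 2 := by
    have h1 := S.index_mul_card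
    rw [hScard, Nat.card_units, Nat.card_eq_fintype_card (α := F), hcardF] at h1
    exact Nat.eq_of_mul_eq_mul_right (m := Nat.card M) (by omega) (by omega)
  have hneg : (-1 : F) ≠ 1 := by
    intro h
    haveI : CharP F 2 := by
      have h2 : (2 : F) = 0 := by linear_combination -h
      exact CharTwo.of_one_ne_zero_of_two_eq_zero one_ne_zero h2
    obtain ⟨n, -, hn⟩ := FiniteField.card F 2
    rw [hcardF] at hn
    have : 2 ∣ p ^ f := hn ▸ dvd_pow_self 2 n.ne_zero
    omega
  have hsquare : ∀ x : Fˣ, x ∈ S → ∃ t : F, t ≠ 0 ∧ (x : F) = t * t := by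
    let sqh : Fˣ →* Fˣ := powMonoidHom 2
    have hle : sqh.range ≤ S := by
      rintro _ ⟨y, rfl⟩
      show y ^ 2 ∈ S
      rw [pow_two]
      exact Subgroup.mul_self_mem_of_index_two hS2 y
    have heq : sqh.range = S := by
      refine Subgroup.eq_of_le_of_card_ge hle ?_
      have h1 := sqh.ker.index_mul_card
      rw [Subgroup.index_ker, Nat.card_units, Nat.card_eq_fintype_card (α := F), hcardF] at h1
      have h2 : Nat.card sqh.ker ≤ 2 := by
        rw [Nat.card_eq_fintype_card, Fintype.card_subtype]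
        refine (Finset.card_le_card (t := ({1, -1} : Finset Fˣ)) fun y hy => ?_).trans Finset.card_le_two
        simp only [Finset.mem_filter, Finset.mem_univ, true_and, MonoidHom.mem_ker, sqh, powMonoidHom_apply] at hy
        have hy' : (y : F) * y = 1 := by rw [← Units.val_mul, ← pow_two, hy]; rfl
        rcases mul_self_eq_one_iff.1 hy' with h' | h'
        · simp [Units.ext_iff, h']
        · simp [Units.ext_iff, h']
      have h3 := Nat.mul_le_mul_left (Nat.card sqh.range) h2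
      rw [hScard]
      omega
    intro x hx
    rw [← heq] at hx
    obtain ⟨y, rfl⟩ := hx
    exact ⟨y, y.ne_zero, by simp [sqh, pow_two]⟩
  -- the exchanging involution
  have hspt : ∀ x : F, x ≠ 0 → ∃ y : F, y ≠ 0 ∧ s • pt x = pt y := by
    intro x hx
    have h1 : s • pt x ≠ a := fun e' => hx (ptinj (by rw [pt0, ← hsa, ← e', ss]))
    obtain ⟨y, hy⟩ := ptsurj _ h1
    refine ⟨y, fun h0 => ?_, hy.symm⟩
    rw [h0, pt0] at hy
    exact ptne x (MulAction.injective s (hy.symm.trans hsa.symm))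
  choose! φ hφ0 hφ using hspt
  have φφ : ∀ x, x ≠ 0 → φ (φ x) = x := fun x hx => ptinj (by rw [← hφ _ (hφ0 x hx), ← hφ x hx, ss])
  have φμ : ∀ (m : M) (x : F), x ≠ 0 → μ m * φ (μ m * x) = φ x := by
    intro m x hx
    apply ptinj
    rw [← hμpt, ← hφ _ (mul_ne_zero (hμ0 m) hx), ← hφ x hx, ← hμpt, ← mul_smul, ← mul_smul]
    congr 1
    have h := hinv m m.2
    rw [hsinv] at h
    calc (m : G) * s * m = (m : G) * (s * m * s) * s := by
          rw [mul_assoc _ (s * (m : G) * s) s, mul_assoc (s * (m : G)) s s, hss, mul_one, mul_assoc]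
      _ = s := by rw [h, mul_inv_cancel, one_mul]
  -- translations
  have htrans : ∀ v : F, ∃ g : G, g • a = a ∧ ∀ x, g • pt x = pt (x + v) := fun v =>
    ⟨ψ v, hK.le _ (hψmem v), fun x => by simp only [pt, ← mul_smul, ← hψadd, add_comm v x]⟩
  choose t ta tx using htrans
  -- the functional equation
  have key : ∀ u, u ≠ 0 → ∃ l : Fˣ, l ∈ S ∧ φ (l * -φ (-u)) = -φ u ∧ ∀ x, x ≠ 0 → φ x + u ≠ 0 → x - φ (-u) ≠ 0 →
      φ (φ x + u) = φ (l * (x - φ (-u))) + φ u := by
    intro u hu
    have hu' : -u ≠ 0 := neg_ne_zero.2 hu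
    set A := φ u with hA
    set x0 := φ (-u) with hx0
    set g := s * t u * s with hg
    have ga : g • a = pt A := by
      rw [hg, mul_smul, mul_smul, hsa, ← pt0, tx, zero_add, hφ u hu]
    have gb : g • b = b := by
      rw [hg, mul_smul, mul_smul, hsb, ta, hsa]
    have gx0 : g • pt x0 = a := by
      rw [hg, mul_smul, mul_smul, hx0, hφ _ (hφ0 _ hu'), φφ _ hu', tx, neg_add_cancel, pt0, hsb]
    have hm : s⁻¹ * (t A)⁻¹ * g * t x0 ∈ M := by
      refine ⟨?_, ?_⟩
      · show (s⁻¹ * (t A)⁻¹ * g * t x0) • a = a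
        rw [mul_smul, ta, mul_smul, mul_smul, ga, inv_smul_eq_iff, inv_smul_eq_iff, hsa, ← pt0, tx, zero_add]
      · show (s⁻¹ * (t A)⁻¹ * g * t x0) • b = b
        rw [mul_smul, show t x0 • b = pt x0 by rw [← pt0, tx, zero_add], mul_smul, mul_smul, gx0,
          inv_smul_eq_iff, inv_smul_eq_iff, hsb, ta]
    obtain ⟨m, hmeq⟩ : ∃ m : M, (m : G) = s⁻¹ * (t A)⁻¹ * g * t x0 := ⟨⟨_, hm⟩, rfl⟩
    have hgeq : g = t A * s * (m : G) * (t x0)⁻¹ := by rw [hmeq]; group
    have tinv : ∀ x, (t x0)⁻¹ • pt x = pt (x - x0) := fun x => by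
      rw [inv_smul_eq_iff, tx, sub_add_cancel]
    refine ⟨μu m, ⟨m, rfl⟩, ?_, fun x hx h1 h2 => ?_⟩
    · have h := gb
      rw [hgeq, mul_smul, mul_smul, mul_smul, ← pt0, tinv, zero_sub, hμpt,
        hφ _ (mul_ne_zero (hμ0 m) (neg_ne_zero.2 (hφ0 _ hu'))), tx] at h
      exact eq_neg_of_add_eq_zero_left (ptinj h)
    · have h : g • pt x = t A • s • (m : G) • (t x0)⁻¹ • pt x := by rw [hgeq, mul_smul, mul_smul, mul_smul]
      rw [hg, mul_smul, mul_smul, hφ x hx, tx, hφ _ h1, tinv, hμpt, hφ _ (mul_ne_zero (hμ0 m) h2), tx] at h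
      exact ptinj h
  obtain ⟨γ, hγ0, hγ, hγS⟩ := inversion_rigid S hS2 φ hφ0 φφ
    (fun l x hl hx => by
      obtain ⟨m, rfl⟩ := hl
      exact φμ m x hx) key
  refine ⟨F, inferInstance, inferInstance, hcardF, hp2, hα, mulEquiv_psl e huniq ?_ ?_ ?_ ?_⟩
  · intro v
    refine ⟨t v, fun x => ?_⟩
    cases x with
    | infty => rw [transSL_smul_infty, e_inf, ta]
    | coe x => rw [transSL_smul, e_coe, e_coe, tx]
  · intro u hu
    obtain ⟨m, hm'⟩ := Subgroup.mul_self_mem_of_index_two hS2 (Units.mk0 u hu)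
    have hm : μ m = u * u := congrArg Units.val hm'
    refine ⟨m, fun x => ?_⟩
    cases x with
    | infty => rw [diagSL_smul_infty, e_inf]; exact m.2.1
    | coe x => rw [diagSL_smul, e_coe, e_coe, hμpt, hm]
  · obtain ⟨m, hm'⟩ := hγS (neg_ne_zero.2 hγ0)
    have hm : μ m = -γ := congrArg Units.val hm'
    have hm0 : μ (m⁻¹) = (-γ)⁻¹ := eq_inv_of_mul_eq_one_left (by rw [← hm, ← hμmul, inv_mul_cancel, hμone])
    refine ⟨(m⁻¹ : M) * s, fun x => ?_⟩
    cases x with
    | infty => rw [invSL_smul_infty, e_inf, e_coe, mul_smul, hsa, pt0]; exact (m⁻¹).2.2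
    | coe x =>
      by_cases hx : x = 0
      · subst hx
        rw [invSL_smul_zero, e_inf, e_coe, mul_smul, pt0, hsb]; exact (m⁻¹).2.1
      · rw [invSL_smul x hx, e_coe, e_coe, mul_smul, hφ x hx, hμpt, hm0]
        congr 1
        have : φ x = γ / x := by rw [eq_div_iff hx, mul_comm]; exact hγ x hx
        rw [this, inv_neg, neg_mul, ← mul_div_assoc, inv_mul_cancel₀ hγ0, one_div]
  · intro g ga gb
    rw [e_inf] at ga
    rw [e_coe, pt0] at gb
    let m : M := ⟨g, ga, gb⟩
    obtain ⟨t0, ht0, he⟩ := hsquare (μu m) ⟨m, rfl⟩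
    refine ⟨t0, ht0, fun x => ?_⟩
    cases x with
    | infty => rw [diagSL_smul_infty, e_inf]; exact ga
    | coe x =>
      rw [diagSL_smul, e_coe, e_coe, ← he]
      exact hμpt m x

end CfsgLib.ZassPSL
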