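import Cfsg.Agent.Lib.SharpThree.TwoPointAction

/-!
A commutative group acting fixed-point-freely on `V` with full span makes `V` a field.
-/

set_option autoImplicit false

namespace CfsgLib.ZassPSL

open CfsgLib.SharpThree

variable {M : Type*} [Group M] [Finite M] {V : Type*} [AddCommGroup V] [Finite V] {ρ : M →* AddMonoid.End V}

theorem exists_field (A : Subgroup M) (hA : ∀ x ∈ A, ∀ y ∈ A, x * y = y * x) {w : V} (hw : w ≠ 0)
    (hsp : ∀ u : V, u ≠ 0 → AddSubgroup.closure (Set.range fun a : A => ρ a u) = ⊤) :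
    ∃ (F : Subring (AddMonoid.End V)), IsField F ∧ ∃ ψ : F ≃+ V, ψ 1 = w ∧
      ∀ a : A, ∃ u : F, ∀ x : F, ρ a (ψ x) = ψ (u * x) := by
  classical
  set R := ring ρ A with hR
  have hRcomm : ∀ r ∈ R, ∀ t ∈ R, r * t = t * r := fun r hr t ht =>
    ring_commute A (fun a => commute_of_mem A hA hr a.2) ht
  have hev : Function.Bijective (fun r : R => (r : AddMonoid.End V) w) := by
    refine ⟨fun r t h => Subtype.ext ?_, fun u => ?_⟩
    · exact eq_of_span (hsp w hw) (fun a => commute_of_mem A hA r.2 a.2)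
        (fun a => commute_of_mem A hA t.2 a.2) h
    · obtain ⟨r, hr, hru⟩ := exists_ring_of_span (hsp w hw) u
      exact ⟨⟨r, hr⟩, hru⟩
  refine ⟨R, ?_, AddEquiv.ofBijective
    ({ toFun := fun r : R => (r : AddMonoid.End V) w, map_zero' := rfl, map_add' := fun _ _ => rfl } : R →+ V) hev,
    rfl, fun a => ⟨⟨ρ a, mem_ring A a.2⟩, fun x => rfl⟩⟩
  refine ⟨⟨0, 1, fun h => hw ?_⟩, fun r t => Subtype.ext (hRcomm r r.2 t t.2), fun {r} hr => ?_⟩
  · have h' := congrArg (fun x : R => (x : AddMonoid.End V) w) h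
    exact h'.symm
  · have hr0 : (r : AddMonoid.End V) w ≠ 0 := fun h => hr (hev.1 (h.trans rfl))
    obtain ⟨t, ht, htw⟩ := exists_ring_of_span (hsp _ hr0) w
    refine ⟨⟨t, ht⟩, Subtype.ext ?_⟩
    show (r : AddMonoid.End V) * t = 1
    rw [hRcomm r r.2 t ht]
    exact eq_of_span (hsp w hw) (fun a => commute_of_mem A hA (R.mul_mem ht r.2) a.2) (fun a => by simp) htw

end CfsgLib.ZassPSL
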